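import Mathlib
import Groth.Agent.Lib.Helper9.FE.WStr2

/-!
# Quasi-finite flat algebras are, étale locally with trivial residue extension,
finite flat surjective (ring-level lemma)
-/

set_option autoImplicit false
set_option backward.isDefEq.respectTransparency.types false
set_option synthInstance.maxHeartbeats 400000
set_option maxHeartbeats 4000000
set_option linter.style.haveILetI false
set_option linter.unusedSectionVars false
set_option linter.unusedVariables false

universe u

namespace Groth.Agent.Helper2.FppfRefine

open TensorProduct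

/-- composition of residue field maps -/
theorem residueField_map_comp {R₁ R₂ R₃ : Type u} [CommRing R₁] [CommRing R₂] [CommRing R₃]
    (I : Ideal R₁) [I.IsPrime] (J : Ideal R₂) [J.IsPrime] (K : Ideal R₃) [K.IsPrime]
    (f : R₁ →+* R₂) (g : R₂ →+* R₃) (hIJ : I = J.comap f) (hJK : J = K.comap g)
    (hIK : I = K.comap (g.comp f)) :
    Ideal.ResidueField.map I K (g.comp f) hIK =
      (Ideal.ResidueField.map J K g hJK).comp (Ideal.ResidueField.map I J f hIJ) := by
  unfold Ideal.ResidueField.map
  rw [← IsLocalRing.ResidueField.map_comp]
  congr 1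
  exact Localization.localRingHom_comp I J K f hIJ g hJK

theorem exists_etale_finite_flat_cover {R S : Type u} [CommRing R] [CommRing S] [Algebra R S]
    [Algebra.FinitePresentation R S] [Module.Flat R S] (p : Ideal R) [p.IsPrime]
    (q : Ideal S) [q.IsPrime] [q.LiesOver p] [Algebra.QuasiFiniteAt R q] :
    ∃ (R'' : Type u) (_ : CommRing R'') (_ : Algebra R R'') (A : Type u) (_ : CommRing A)
      (_ : Algebra R'' A) (ψ : S →+* A) (P : Ideal R'') (_ : P.IsPrime),
      Algebra.Etale R R'' ∧ P.comap (algebraMap R R'') = p ∧
      Function.Bijective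
        (Ideal.ResidueField.map (P.comap (algebraMap R R'')) P (algebraMap R R'') rfl) ∧
      Module.Finite R'' A ∧ Module.Flat R'' A ∧
      Function.Surjective (PrimeSpectrum.comap (algebraMap R'' A)) ∧
      (algebraMap R'' A).comp (algebraMap R R'') = ψ.comp (algebraMap R S) := by
  obtain ⟨R', _, _, hEt, P, _, _, e, he, P', _, _, hP'q, heP', hbij, hfinA, huniq⟩ :=
    Algebra.exists_etale_isIdempotentElem_forall_liesOver_eq p q
  haveI : Module.Flat R' (R' ⊗[R] S) := inferInstance
  haveI : Module.Flat R' (Localization.Away e) :=
    Module.Flat.trans R' (R' ⊗[R] S) (Localization.Away e)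
  haveI : Algebra.FinitePresentation R' (R' ⊗[R] S) := inferInstance
  haveI : Algebra.FinitePresentation (R' ⊗[R] S) (Localization.Away e) :=
    IsLocalization.Away.finitePresentation e
  haveI : Algebra.FinitePresentation R' (Localization.Away e) :=
    Algebra.FinitePresentation.trans R' (R' ⊗[R] S) (Localization.Away e)
  have hopen : IsOpenMap (PrimeSpectrum.comap (algebraMap R' (Localization.Away e))) :=
    PrimeSpectrum.isOpenMap_comap_of_hasGoingDown_of_finitePresentation
  have hdisj : Disjoint (Submonoid.powers e : Set (R' ⊗[R] S)) (P' : Set (R' ⊗[R] S)) := by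
    rwa [Ideal.disjoint_powers_iff_notMem_of_isPrime]
  let P₀ : Ideal (Localization.Away e) := P'.map (algebraMap _ (Localization.Away e))
  haveI hP₀prime : P₀.IsPrime :=
    IsLocalization.isPrime_of_isPrime_disjoint (.powers e) _ _ ‹_› hdisj
  have hP₀ : P₀.comap (algebraMap (R' ⊗[R] S) (Localization.Away e)) = P' :=
    IsLocalization.under_map_of_isPrime_disjoint (.powers e) _ ‹_› hdisj
  have hP₀P : P₀.comap (algebraMap R' (Localization.Away e)) = P := by
    rw [IsScalarTower.algebraMap_eq R' (R' ⊗[R] S) (Localization.Away e), ← Ideal.comap_comap,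
      hP₀]
    exact (P'.over_def P).symm
  have hPmem : (⟨P, ‹_›⟩ : PrimeSpectrum R') ∈
      Set.range (PrimeSpectrum.comap (algebraMap R' (Localization.Away e))) :=
    ⟨⟨P₀, hP₀prime⟩, PrimeSpectrum.ext hP₀P⟩
  obtain ⟨_, ⟨_, ⟨g, rfl⟩, rfl⟩, hgP, hgI⟩ :=
    PrimeSpectrum.isBasis_basic_opens.exists_subset_of_mem_open hPmem hopen.isOpen_range
  have hgP' : g ∉ P := hgP
  -- the localization `R''`
  haveI : Algebra.Etale R' (Localization.Away g) := Algebra.Etale.of_isLocalizationAway g
  haveI : Algebra.Etale R (Localization.Away g) := Algebra.Etale.comp R R' (Localization.Away g)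
  have hdisjg : Disjoint (Submonoid.powers g : Set R') (P : Set R') := by
    rwa [Ideal.disjoint_powers_iff_notMem_of_isPrime]
  let P'' : Ideal (Localization.Away g) := P.map (algebraMap R' (Localization.Away g))
  haveI hP''prime : P''.IsPrime :=
    IsLocalization.isPrime_of_isPrime_disjoint (.powers g) _ _ ‹_› hdisjg
  have hP'' : P''.comap (algebraMap R' (Localization.Away g)) = P :=
    IsLocalization.under_map_of_isPrime_disjoint (.powers g) _ ‹_› hdisjg
  have hpP : p = P.comap (algebraMap R R') := P.over_def p
  have hP''p : P''.comap (algebraMap R (Localization.Away g)) = p := by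
    rw [IsScalarTower.algebraMap_eq R R' (Localization.Away g), ← Ideal.comap_comap, hP'', hpP]
  -- the map `S → A`
  let ψ : S →+* Localization.Away g ⊗[R'] Localization.Away e :=
    (Algebra.TensorProduct.includeRight :
        Localization.Away e →ₐ[R'] Localization.Away g ⊗[R'] Localization.Away e).toRingHom.comp
      ((algebraMap (R' ⊗[R] S) (Localization.Away e)).comp
        (Algebra.TensorProduct.includeRight : S →ₐ[R] R' ⊗[R] S).toRingHom)
  refine ⟨Localization.Away g, inferInstance, inferInstance,
    Localization.Away g ⊗[R'] Localization.Away e, inferInstance, inferInstance, ψ, P'',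
    hP''prime, inferInstance, hP''p, ?_, inferInstance, inferInstance, ?_, ?_⟩
  · -- residue fields
    have h1 : Function.Bijective
        (Ideal.ResidueField.map P P'' (algebraMap R' (Localization.Away g)) hP''.symm) :=
      (RingHom.surjectiveOnStalks_of_isLocalization (.powers g) _).residueFieldMap_bijective _ _ _
    have h2 : Function.Bijective (Ideal.ResidueField.map p P (algebraMap R R') hpP) := hbij
    have key : ∀ (p₀ : Ideal R) [p₀.IsPrime]
        (h : p₀ = P''.comap (algebraMap R (Localization.Away g))),
        Function.Bijective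
          (Ideal.ResidueField.map p₀ P'' (algebraMap R (Localization.Away g)) h) := by
      intro p₀ _ h
      obtain rfl : p₀ = p := h.trans hP''p
      have h3 : p₀ = P''.comap ((algebraMap R' (Localization.Away g)).comp (algebraMap R R')) := by
        rw [← IsScalarTower.algebraMap_eq]; exact h
      have h4 := residueField_map_comp p₀ P P'' (algebraMap R R')
        (algebraMap R' (Localization.Away g)) hpP hP''.symm h3
      have h5 : Ideal.ResidueField.map p₀ P'' (algebraMap R (Localization.Away g)) h =
          Ideal.ResidueField.map p₀ P''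
            ((algebraMap R' (Localization.Away g)).comp (algebraMap R R')) h3 := by
        congr 1
      rw [h5, h4]
      exact h1.comp h2
    exact key _ rfl
  · -- surjectivity
    intro Q''
    have hgQ : g ∉ Q''.asIdeal.comap (algebraMap R' (Localization.Away g)) := by
      intro hmem
      have hu : IsUnit (algebraMap R' (Localization.Away g) g) :=
        IsLocalization.Away.algebraMap_isUnit g
      exact Q''.isPrime.ne_top (Ideal.eq_top_of_isUnit_mem _ hmem hu)
    have hQmem : (PrimeSpectrum.comap (algebraMap R' (Localization.Away g)) Q'') ∈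
        Set.range (PrimeSpectrum.comap (algebraMap R' (Localization.Away e))) := hgI hgQ
    obtain ⟨c, hc⟩ := hQmem
    obtain ⟨W, hW1, hW2⟩ := H9FE.WStr.exists_prime_tensor R' (Localization.Away g)
      (Localization.Away e) Q'' c hc.symm
    refine ⟨W, ?_⟩
    rw [← hW1]
    rfl
  · -- compatibility
    ext r
    simp only [RingHom.comp_apply, ψ]
    show algebraMap (Localization.Away g) (Localization.Away g ⊗[R'] Localization.Away e)
        (algebraMap R (Localization.Away g) r) =
      (1 : Localization.Away g) ⊗ₜ[R'] (algebraMap (R' ⊗[R] S) (Localization.Away e)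
        ((1 : R') ⊗ₜ[R] (algebraMap R S r)))
    have e1 : ((1 : R') ⊗ₜ[R] (algebraMap R S r) : R' ⊗[R] S) =
        algebraMap R' (R' ⊗[R] S) (algebraMap R R' r) := by
      rw [Algebra.TensorProduct.algebraMap_apply, Algebra.algebraMap_self, RingHom.id_apply]
      exact (Algebra.TensorProduct.tmul_one_eq_one_tmul r).symm
    have e2 : ((1 : Localization.Away g) ⊗ₜ[R']
        (algebraMap R' (Localization.Away e) (algebraMap R R' r))) =
        (algebraMap R' (Localization.Away g) (algebraMap R R' r)) ⊗ₜ[R']
          (1 : Localization.Away e) :=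
      (Algebra.TensorProduct.tmul_one_eq_one_tmul (algebraMap R R' r)).symm
    rw [e1, ← IsScalarTower.algebraMap_apply R' (R' ⊗[R] S) (Localization.Away e), e2,
      Algebra.TensorProduct.algebraMap_apply, Algebra.algebraMap_self, RingHom.id_apply,
      ← IsScalarTower.algebraMap_apply R R' (Localization.Away g)]

end Groth.Agent.Helper2.FppfRefine
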