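import Mathlib
import Groth.Agent.Lib.Helper2.FppfRefine.Ring2
import Groth.Agent.Lib.Helper2.FppfRefine.Main
import Groth.Agent.Lib.Helper9.UnivHomeo
import Groth.Agent.Lib.Lead.CMPt2

/-!
# fppf coverings are refined by (étale, residually trivial) ∘ (finite flat surjective)
-/

set_option autoImplicit false
set_option backward.isDefEq.respectTransparency.types false
set_option synthInstance.maxHeartbeats 400000
set_option maxHeartbeats 4000000
set_option linter.style.haveILetI false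
set_option linter.unusedSectionVars false
set_option linter.unusedVariables false

universe u

namespace Groth.Agent.Helper2.FppfRefine

open CategoryTheory CategoryTheory.Limits AlgebraicGeometry TopologicalSpace

/-- the local statement at a point -/
theorem local_refinement_fp {X W : Scheme.{u}} (w : W ⟶ X) [Flat w] [LocallyOfFinitePresentation w]
    (w₀ : W) :
    ∃ (U V : Scheme.{u}) (u : U ⟶ X) (v : V ⟶ U) (r : V ⟶ W), Etale u ∧
      (∃ y : U, u y = w w₀ ∧ IsIso (u.residueFieldMap y)) ∧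
      IsFinite v ∧ Flat v ∧ LocallyOfFinitePresentation v ∧ Surjective v ∧ r ≫ w = v ≫ u := by
  obtain ⟨Z, h, hZaff, hfl, hfp, hqf, ⟨z, hz⟩⟩ := Groth.Agent.Lead.CMPt.exists_affine_slice w w₀
  set x : X := w w₀ with hx
  set g : Z ⟶ X := h ≫ w with hg
  -- affine charts
  obtain ⟨X₀, hX₀, hxX₀, -⟩ := exists_isAffineOpen_mem_and_subset (x := x) (U := ⊤) trivial
  have hzX₀ : z ∈ g ⁻¹ᵁ X₀ := by
    show g z ∈ X₀
    rw [hz]; exact hxX₀
  obtain ⟨Z₀, hZ₀, hzZ₀, hle⟩ := exists_isAffineOpen_mem_and_subset (x := z) (U := g ⁻¹ᵁ X₀) hzX₀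
  letI : Algebra Γ(X, X₀) Γ(Z, Z₀) := (g.appLE X₀ Z₀ hle).hom.toAlgebra
  haveI : Module.Flat Γ(X, X₀) Γ(Z, Z₀) := Scheme.Hom.flat_appLE g hX₀ hZ₀ hle
  haveI : Algebra.FinitePresentation Γ(X, X₀) Γ(Z, Z₀) :=
    Scheme.Hom.finitePresentation_appLE g hX₀ hZ₀ hle
  haveI : Algebra.QuasiFinite Γ(X, X₀) Γ(Z, Z₀) :=
    LocallyQuasiFinite.quasiFinite_appLE hX₀ hZ₀ hle
  -- the primes
  let Px : PrimeSpectrum Γ(X, X₀) := hX₀.primeIdealOf ⟨x, hxX₀⟩
  let Qz : PrimeSpectrum Γ(Z, Z₀) := hZ₀.primeIdealOf ⟨z, hzZ₀⟩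
  have hPx : hX₀.fromSpec Px = x := hX₀.fromSpec_primeIdealOf ⟨x, hxX₀⟩
  have hQz : hZ₀.fromSpec Qz = z := hZ₀.fromSpec_primeIdealOf ⟨z, hzZ₀⟩
  have hPQ : (Spec.map (g.appLE X₀ Z₀ hle)) Qz = Px := by
    apply hX₀.fromSpec.isOpenEmbedding.injective
    rw [← Scheme.Hom.comp_apply, IsAffineOpen.SpecMap_appLE_fromSpec g hX₀ hZ₀ hle,
      Scheme.Hom.comp_apply, hQz, hz, hPx]
  haveI : Qz.asIdeal.LiesOver Px.asIdeal := ⟨(congrArg PrimeSpectrum.asIdeal hPQ).symm⟩
  haveI : Algebra.QuasiFiniteAt Γ(X, X₀) Qz.asIdeal := inferInstance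
  obtain ⟨R'', _, _, A, _, _, ψ, P, hPprime, hEt, hPp, hres, hfin, hflat, hfpA, hsurj, hcomm⟩ :=
    exists_etale_finite_flat_fp_cover (R := Γ(X, X₀)) (S := Γ(Z, Z₀)) Px.asIdeal Qz.asIdeal
  -- the schemes
  let u₀ : Spec (.of R'') ⟶ Spec Γ(X, X₀) := Spec.map (CommRingCat.ofHom (algebraMap Γ(X, X₀) R''))
  let u : Spec (.of R'') ⟶ X := u₀ ≫ hX₀.fromSpec
  let v : Spec (.of A) ⟶ Spec (.of R'') := Spec.map (CommRingCat.ofHom (algebraMap R'' A))
  let r : Spec (.of A) ⟶ W := Spec.map (CommRingCat.ofHom ψ) ≫ hZ₀.fromSpec ≫ h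
  have hu₀ : Etale u₀ := by
    rw [HasRingHomProperty.Spec_iff (P := @Etale)]
    exact RingHom.etale_algebraMap.mpr hEt
  have hv1 : IsFinite v := by
    rw [IsFinite.SpecMap_iff]
    exact RingHom.finite_algebraMap.mpr hfin
  have hv2 : Flat v := by
    rw [Flat.SpecMap_iff]
    exact RingHom.flat_algebraMap_iff.mpr hflat
  have hv4 : LocallyOfFinitePresentation v := by
    rw [LocallyOfFinitePresentation.SpecMap_iff]
    exact RingHom.finitePresentation_algebraMap.mpr hfpA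
  have hv3 : Surjective v := by
    rw [surjective_iff]
    exact hsurj
  let y : Spec (.of R'') := ⟨P, hPprime⟩
  have hy0 : u₀ y = Px := PrimeSpectrum.ext hPp
  have hy : u y = x := by
    dsimp only [u]
    rw [Scheme.Hom.comp_apply, hy0, hPx]
  have hres' : IsIso (u₀.residueFieldMap y) :=
    (Groth.Agent.Helper9.UH.isIso_residueFieldMap_iff (algebraMap Γ(X, X₀) R'') y).mpr hres
  have hresu : IsIso (u.residueFieldMap y) :=
    isIso_residueFieldMap_comp_fromSpec hX₀ u₀ y hres'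
  refine ⟨Spec (.of R''), Spec (.of A), u, v, r, ?_, ⟨y, hy, hresu⟩, hv1, hv2, hv4, hv3, ?_⟩
  · dsimp only [u]; infer_instance
  · dsimp only [r, u, v, u₀]
    rw [Category.assoc, Category.assoc, ← hg,
      ← IsAffineOpen.SpecMap_appLE_fromSpec g hX₀ hZ₀ hle, ← Category.assoc, ← Category.assoc,
      ← Spec.map_comp, ← Spec.map_comp]
    congr 2
    ext c
    exact (congrArg (fun φ => φ c) hcomm).symm

end Groth.Agent.Helper2.FppfRefine
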