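import Mathlib
import Groth.Agent.Lib.Helper2.FppfRefine.Main2
import Groth.Agent.Lib.Helper2.SplitAlg.EtaleNbhdAll

/-!
# fppf coverings are refined by towers (Zariski, finite locally free, Zariski, finite locally free)
-/

set_option autoImplicit false
set_option backward.isDefEq.respectTransparency.types false
set_option synthInstance.maxHeartbeats 400000
set_option maxHeartbeats 4000000
set_option linter.style.haveILetI false
set_option linter.unusedSectionVars false
set_option linter.unusedVariables false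

universe w u

namespace Groth.Agent.Helper2.FppfRefine

open CategoryTheory CategoryTheory.Limits AlgebraicGeometry

theorem towers {S : Scheme.{u}} (E : PreZeroHypercover.{w} S)
    (hflat : ∀ i, Flat (E.f i)) (hfp : ∀ i, LocallyOfFinitePresentation (E.f i))
    (hsurj : ∀ s : S, ∃ (i : E.I₀) (x : E.X i), E.f i x = s) (s : S) :
    ∃ (U : S.Opens) (W : Scheme.{u}) (π : W ⟶ U.toScheme), s ∈ U ∧
      (IsFinite π ∧ Flat π ∧ LocallyOfFinitePresentation π) ∧ Surjective π ∧
      ∀ w : W, ∃ (W' : W.Opens) (T : Scheme.{u}) (ρ : T ⟶ W'.toScheme) (i : E.I₀)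
        (r : T ⟶ E.X i), w ∈ W' ∧ (IsFinite ρ ∧ Flat ρ ∧ LocallyOfFinitePresentation ρ) ∧
          Surjective ρ ∧ r ≫ E.f i = ρ ≫ W'.ι ≫ π ≫ U.ι := by
  obtain ⟨i, x₀, hx₀⟩ := hsurj s
  haveI := hflat i
  haveI := hfp i
  obtain ⟨U₁, V₁, u, v, r₀, hEt, ⟨y, hy, -⟩, hv1, hv2, hv4, hv3, hcomm⟩ :=
    local_refinement_fp (E.f i) x₀
  haveI := hEt
  obtain ⟨V, T, π, hsV, hπs, hπfin, hπflat, hπfp, H⟩ :=
    Groth.Agent.Helper2.SplitAlg.etale_nbhd_all u y s (hy.trans hx₀)
  refine ⟨V, T, π, hsV, ⟨hπfin, hπflat, hπfp⟩, hπs, ?_⟩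
  intro t
  obtain ⟨W', h, htW', hc⟩ := H t
  haveI := hv1
  haveI := hv2
  haveI := hv4
  haveI := hv3
  refine ⟨W', pullback h v, pullback.fst h v, i, pullback.snd h v ≫ r₀, htW',
    ⟨inferInstance, inferInstance, inferInstance⟩, inferInstance, ?_⟩
  rw [Category.assoc, hcomm, ← Category.assoc, ← pullback.condition, Category.assoc, hc]

end Groth.Agent.Helper2.FppfRefine
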